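import Cfsg.Agent.Lib.Bender.OneFix.Fixed

/-!
Without bad elements the action is doubly transitive, and inverted elements of a two-point stabiliser fix no
third point.

Blueprints: `blueprint/bender/A5.md`, 1a, and `blueprint/bender/A_helper1.md`, R3.
-/

set_option autoImplicit false
set_option linter.unusedSectionVars false
set_option linter.style.haveILetI false

namespace CfsgLib.Bender.OneFix

open MulAction Cfsg CfsgLib.Bender.TwoClosed

universe u v

variable {G : Type u} {Ω : Type v} [Group G] [MulAction G Ω] [Finite G] [FaithfulSMul G Ω] {a b : Ω}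
  (hF : OneFix G Ω) (hNB : NoBad G Ω)
include hF hNB

/-- An element with two fixed points inverted by an involution has a centraliser of odd order. -/
theorem inverted_oddCent {u y : G} (hu : IsInv u) (hinv : u * y * u = y⁻¹) (hy1 : y ≠ 1)
    (hodd : Odd (orderOf y)) {c d : Ω} (hne : c ≠ d) (hyc : y • c = c) (hyd : y • d = d) :
    OddCent (Subgroup.zpowers y) := by
  intro x hxy hx
  have hyx : y * x = x * y := hxy y (Subgroup.mem_zpowers y)
  obtain ⟨e, he⟩ := exists_fix hF hx
  have hye : y • e = e := commute_fix hF hx he hyx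
  rcases eq_or_ne (u • e) e with hue | hue
  · rcases eq_or_ne c e with hce | hce
    · exact hy1 (hNB u y e d hu hue hinv hye (hce ▸ hne.symm) hyd)
    · exact hy1 (hNB u y e c hu hue hinv hye hce hyc)
  · exact hy1 (inverted_commute hF hu hx hodd hinv hyx he hue)

section Sylow

variable {p : ℕ} [Fact p.Prime] (hp2 : p ≠ 2)
include hp2

/-- A maximal `p`-subgroup of `G_{ab}` with only two fixed points when `p` divides the number of involutions. -/
theorem sylow_fixed (hpm : p ∣ Nat.card (InvAt G a)) (hb : b ≠ a) :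
    ∃ R, MaxP p (two a b) R ∧ MaxP p (stabilizer G a) R ∧ ∀ c ∈ fixSet Ω R, c = a ∨ c = b := by
  obtain ⟨⟨u, hu, hua⟩⟩ := exists_swap hF hb.symm
  have hub := hu.swap_back hua
  set D : Subgroup G := two a b
  have hDodd : Odd (Nat.card D) := odd_two hF hb.symm
  have hun : ∀ k ∈ D, u * k * u⁻¹ ∈ D := fun k hk => by
    obtain ⟨h1, h2⟩ := mem_two.mp hk
    rw [hu.inv]
    exact mem_two.mpr ⟨by rw [mul_smul, mul_smul, hua, h2, hub], by rw [mul_smul, mul_smul, hub, h1, hua]⟩
  obtain ⟨R, hR, huR⟩ := exists_invariant_maxP (p := p) hDodd hu.2 hun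
  obtain ⟨x, hxR, hxu⟩ : ∃ x ∈ R, u * x * u ≠ x := by
    by_contra h
    push Not at h
    have hle : R ≤ D ⊓ Subgroup.centralizer ({u} : Set G) := le_inf hR.le fun x hx =>
      Subgroup.mem_centralizer_singleton_iff.mpr (by
        have := h x hx
        calc x * u = u * x * u * u := by rw [this]
          _ = u * x := by rw [mul_assoc, hu.2, mul_one])
    refine Nat.pow_succ_factorization_not_dvd (n := Nat.card D) (p := p) Nat.card_pos.ne' Fact.out ?_
    rw [pow_succ', ← hR.card, card_two_eq hF hb hu hua]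
    exact Nat.mul_dvd_mul hpm (Subgroup.card_dvd_of_le hle)
  set y := x⁻¹ * (u * x * u) with hy
  have huxR : u * x * u ∈ R := by
    have h := conj_mem_of_normalizer huR hxR
    rwa [hu.inv] at h
  have hyR : y ∈ R := mul_mem (inv_mem hxR) huxR
  have hinv : u * y * u = y⁻¹ := by
    calc u * (x⁻¹ * (u * x * u)) * u = u * x⁻¹ * u * x * (u * u) := by group
      _ = u⁻¹ * x⁻¹ * u⁻¹ * x := by rw [hu.2, mul_one, hu.inv]
      _ = (x⁻¹ * (u * x * u))⁻¹ := by group
  have hy1 : y ≠ 1 := fun e => hxu (inv_mul_eq_one.mp e).symm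
  have hfix : ∀ c ∈ fixSet Ω R, c = a ∨ c = b := by
    intro c hc
    by_contra h
    push Not at h
    have hle : Subgroup.zpowers y ≤ R := Subgroup.zpowers_le.mpr hyR
    exact fix_le_two hF hNB hp2 R hR.isPGroup
      ((inverted_oddCent hF hNB hu hinv hy1 (odd_orderOf hDodd (hR.le hyR)) hb.symm (mem_two.mp (hR.le hyR)).1
        (mem_two.mp (hR.le hyR)).2).mono hle) a b c
      (fun e he => (mem_two.mp (hR.le he)).1) (fun e he => (mem_two.mp (hR.le he)).2) hc
      hb.symm (Ne.symm h.1) (Ne.symm h.2)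
  refine ⟨R, hR, ?_, hfix⟩
  obtain ⟨P, hRP, hP⟩ := exists_maxP hR.isPGroup (hR.le.trans inf_le_left : R ≤ stabilizer G a)
  rcases hRP.eq_or_lt with rfl | hlt
  · exact hP
  exfalso
  obtain ⟨g, hg, hgR, hgn⟩ := exists_mem_normalizer hP.isPGroup hlt
  have hga : g • a = a := mem_stabilizer_iff.mp (hP.le hg)
  have hgb : g • b = b := by
    rcases hfix _ (fixSet_smul hgn (fun e he => (mem_two.mp (hR.le he)).2)) with e | e
    · exact absurd (smul_left_cancel g (e.trans hga.symm)) hb
    · exact e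
  exact hgR ((le_sup_right : _ ≤ R ⊔ Subgroup.zpowers g).trans
    (hR.eq_of_le (hP.isPGroup.to_le (sup_le hRP (Subgroup.zpowers_le.mpr hg)))
      (sup_le hR.le (Subgroup.zpowers_le.mpr (mem_two.mpr ⟨hga, hgb⟩))) le_sup_left).le
    (Subgroup.mem_zpowers g))

omit hp2 in
/-- `G` is doubly transitive. -/
theorem transitive_stab (hb : b ≠ a) {c : Ω} (hc : c ≠ a) : ∃ h : G, h • a = a ∧ h • b = c := by
  have h3 := card_invAt_ge hF a
  obtain ⟨r, hr, hrm⟩ := Nat.exists_prime_and_dvd (show Nat.card (InvAt G a) ≠ 1 by omega)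
  haveI := Fact.mk hr
  have hr2 : r ≠ 2 := by
    rintro rfl
    exact Nat.not_even_iff_odd.mpr (odd_invAt hF a) (even_iff_two_dvd.mpr hrm)
  obtain ⟨R, hR, hRa, -⟩ := sylow_fixed hF hNB hr2 hrm hb
  obtain ⟨R', hR', hRa', honly⟩ := sylow_fixed hF hNB hr2 hrm hc
  obtain ⟨g, hg, hgR⟩ := hRa.conj hRa'
  have hga := mem_stabilizer_iff.mp hg
  refine ⟨g, hga, ?_⟩
  have hfix : g • b ∈ fixSet Ω R' := fun x hx => by
    have h := (mem_two.mp (hR.le ((hgR (g⁻¹ * x * g)).mpr (by simpa [mul_assoc] using hx)))).2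
    rwa [mul_smul, mul_smul, inv_smul_eq_iff] at h
  rcases honly _ hfix with e | e
  · exact absurd (smul_left_cancel g (e.trans hga.symm)) hb
  · exact e

end Sylow

omit hNB in
/-- Powers of an inverted element are inverted. -/
theorem inverted_pow {u y : G} (hu : IsInv u) (hinv : u * y * u = y⁻¹) (n : ℕ) :
    u * y ^ n * u = (y ^ n)⁻¹ := by
  have h := conj_pow (i := n) (a := u) (b := y)
  rw [hu.inv, hinv, inv_pow] at h
  exact h.symm

/-- A non-identity inverted element of a two-point stabiliser fixes only the two points. -/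
theorem fix_inverted (hab : b ≠ a) {u y : G} (hu : IsInv u) (hinv : u * y * u = y⁻¹) (hy : y ∈ two a b)
    (hy1 : y ≠ 1) {c : Ω} (hc : y • c = c) : c = a ∨ c = b := by
  have hodd : Odd (orderOf y) := odd_orderOf (odd_two hF hab.symm) hy
  obtain ⟨p, hp, hpd⟩ := Nat.exists_prime_and_dvd (fun e => hy1 (orderOf_eq_one_iff.mp e))
  haveI := Fact.mk hp
  have hp2 : p ≠ 2 := fun e => Nat.not_even_iff_odd.mpr hodd (even_iff_two_dvd.mpr (e ▸ hpd))
  set z := y ^ (orderOf y / p) with hz
  have hzo : orderOf z = p := orderOf_pow_orderOf_div (orderOf_pos y).ne' hpd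
  have hz1 : z ≠ 1 := fun e => by rw [e, orderOf_one] at hzo; exact hp.one_lt.ne hzo
  have hzfix : ∀ {e : Ω}, y • e = e → z • e = e := fun {e} he =>
    mem_stabilizer_iff.mp (pow_mem (mem_stabilizer_iff.mpr he) _)
  have hX : IsPGroup p (Subgroup.zpowers z) :=
    IsPGroup.of_card (n := 1) (by rw [Nat.card_zpowers, hzo, pow_one])
  have hfix : ∀ {e : Ω}, y • e = e → e ∈ fixSet Ω (Subgroup.zpowers z) := fun {e} he x hx =>
    mem_stabilizer_iff.mp (Subgroup.zpowers_le.mpr (mem_stabilizer_iff.mpr (hzfix he)) hx)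
  obtain ⟨h1, h2⟩ := mem_two.mp hy
  by_contra h
  push Not at h
  exact fix_le_two hF hNB hp2 _ hX
    (inverted_oddCent hF hNB hu (inverted_pow hF hu hinv _) hz1
      (hodd.of_dvd_nat (orderOf_pow_dvd (x := y) _)) hab.symm (hzfix h1) (hzfix h2))
    a b c (hfix h1) (hfix h2) (hfix hc) hab.symm h.1.symm h.2.symm

/-- The centraliser in a point stabiliser of an inverted element lies in the two-point stabiliser. -/
theorem centralizer_inverted (hab : b ≠ a) {u y g : G} (hu : IsInv u) (hinv : u * y * u = y⁻¹)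
    (hy : y ∈ two a b) (hy1 : y ≠ 1) (hga : g • a = a) (hgy : g * y = y * g) : g ∈ two a b := by
  have h : y • g • b = g • b := by rw [← mul_smul, ← hgy, mul_smul, (mem_two.mp hy).2]
  rcases fix_inverted hF hNB hab hu hinv hy hy1 h with e | e
  · exact absurd (smul_left_cancel g (e.trans hga.symm)) hab
  · exact mem_two.mpr ⟨hga, e⟩

/-- `G` is doubly transitive. -/
theorem two_pretransitive : IsMultiplyPretransitive G Ω 2 := by
  rw [is_two_pretransitive_iff]
  haveI := hF.trans
  intro p q p' q' hpq hpq'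
  obtain ⟨g, rfl⟩ := exists_smul_eq G p p'
  obtain ⟨h, hh, hhq⟩ := transitive_stab hF hNB (a := g • p) (b := g • q)
    (fun e => hpq (smul_left_cancel g e).symm) hpq'.symm
  exact ⟨h * g, by rw [mul_smul, hh], by rw [mul_smul, hhq]⟩

end CfsgLib.Bender.OneFix
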