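import Cfsg.Agent.Lib.Bender.OneFix.Basic
import Cfsg.Agent.Lib.Bender.TwoClosed.Tools
import Cfsg.Agent.Lib.CoprimeGen
import Cfsg.Agent.S0225

/-!
Without bad elements a `p`-subgroup whose centraliser has odd order fixes at most two points.

Blueprints: `blueprint/bender/A.md`, P1, and `blueprint/bender/A_TwoClosed.md`, step 2.
-/

set_option autoImplicit false
set_option linter.unusedSectionVars false
set_option linter.style.haveILetI false

namespace CfsgLib.Bender.TwoClosed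

open MulAction Cfsg

universe u v

variable {G : Type u} {Ω : Type v} [Group G] [MulAction G Ω]

/-- The points fixed by a subgroup. -/
abbrev fixSet (Ω : Type v) [MulAction G Ω] (X : Subgroup G) : Set Ω := {c | ∀ x ∈ X, x • c = c}

/-- No involution centralises `X`. -/
def OddCent (X : Subgroup G) : Prop := ∀ x : G, (∀ e ∈ X, e * x = x * e) → ¬ IsInv x

theorem OddCent.mono {X Y : Subgroup G} (h : OddCent X) (hXY : X ≤ Y) : OddCent Y :=
  fun x hx => h x fun e he => hx e (hXY he)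

theorem fixSet_smul {X : Subgroup G} {g : G} (hg : g ∈ Subgroup.normalizer (X : Set G)) {c : Ω}
    (hc : c ∈ fixSet Ω X) : g • c ∈ fixSet Ω X := fun x hx => by
  have h := hc _ ((Subgroup.mem_normalizer_iff''.mp hg x).mp hx)
  rwa [mul_smul, mul_smul, inv_smul_eq_iff] at h

end CfsgLib.Bender.TwoClosed

namespace CfsgLib.Bender

open MulAction Cfsg CfsgLib.Bender.TwoClosed

universe u v

variable {G : Type u} {Ω : Type v} [Group G] [MulAction G Ω]

namespace OneFix

variable [Finite G] (hF : OneFix G Ω) (hNB : NoBad G Ω)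
include hF hNB

/-- An involution normalising a subgroup with two fixed points and fixing one of them centralises it. -/
theorem commute_of_fix_point {X : Subgroup G} {x : G} (hx : IsInv x)
    (hn : x ∈ Subgroup.normalizer (X : Set G)) {c d : Ω} (hc : c ∈ fixSet Ω X) (hd : d ∈ fixSet Ω X)
    (hne : d ≠ c) (hxc : x • c = c) : ∀ e ∈ X, e * x = x * e := fun e he => by
  have hy : x * e * x⁻¹ * e⁻¹ ∈ X := mul_mem (conj_mem_of_normalizer hn he) (inv_mem he)
  have h := hNB x _ c d hx hxc (by simp [hx.inv, mul_assoc, hx.2]; rw [← mul_assoc x x, hx.2, one_mul])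
    (hc _ hy) hne (hd _ hy)
  rw [mul_inv_eq_one, mul_inv_eq_iff_eq_mul] at h
  exact h.symm

variable {p : ℕ} [Fact p.Prime] (hp2 : p ≠ 2) {X : Subgroup G} (hX : IsPGroup p X) (hodd : OddCent X)
  (hpair : ∃ c d : Ω, c ∈ fixSet Ω X ∧ d ∈ fixSet Ω X ∧ c ≠ d)
include hp2 hX hodd hpair

theorem inv_fpf {x : G} (hx : IsInv x) (hn : x ∈ Subgroup.normalizer (X : Set G)) {c : Ω}
    (hc : c ∈ fixSet Ω X) : x • c ≠ c := by
  intro hxc
  refine hodd x ?_ hx
  obtain ⟨p', q', hp', hq', hne⟩ := hpair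
  rcases eq_or_ne p' c with e | e
  · exact commute_of_fix_point hF hNB hx hn hc hq' (e ▸ hne.symm) hxc
  · exact commute_of_fix_point hF hNB hx hn hc hp' e hxc

theorem no_four {e f : G} (he : IsInv e) (hf : IsInv f) (hne : e ≠ f) (hcom : e * f = f * e)
    (hen : e ∈ Subgroup.normalizer (X : Set G)) (hfn : f ∈ Subgroup.normalizer (X : Set G)) : False := by
  obtain ⟨w, hw⟩ := exists_fix hF he
  have hfw : f • w = w := commute_fix hF he hw hcom.symm
  let A : Subgroup G :=
    { carrier := {x | (x * e = e * x ∧ x * x = 1) ∧ (x = 1 ∨ x = e ∨ x = f ∨ x = e * f)}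
      one_mem' := ⟨⟨by rw [one_mul, mul_one], mul_one 1⟩, Or.inl rfl⟩
      mul_mem' := by
        rintro x y ⟨⟨hxe, hx2⟩, hx⟩ ⟨⟨hye, hy2⟩, hy⟩
        have hxy : x * y = y * x := by
          rcases hx with hx | hx | hx | hx <;> rcases hy with hy | hy | hy | hy <;> rw [hx, hy] <;>
            first
              | rw [one_mul, mul_one]
              | rw [mul_one, one_mul]
              | rfl
              | exact hcom
              | exact hcom.symm
              | exact (Commute.mul_right (Commute.refl e) hcom).eq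
              | exact (Commute.mul_right (Commute.refl e) hcom).eq.symm
              | exact (Commute.mul_right (show Commute f e from hcom.symm) (Commute.refl f)).eq
              | exact (Commute.mul_right (show Commute f e from hcom.symm) (Commute.refl f)).eq.symm
        refine ⟨⟨by rw [mul_assoc, hye, ← mul_assoc, hxe, mul_assoc], ?_⟩, ?_⟩
        · calc x * y * (x * y) = x * (y * x) * y := by group
            _ = x * (x * y) * y := by rw [hxy]
            _ = 1 := by rw [← mul_assoc, hx2, one_mul, hy2]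
        · have h1 : f * (e * f) = e := by rw [← mul_assoc, ← hcom, mul_assoc, hf.2, mul_one]
          have h2 : e * (e * f) = f := by rw [← mul_assoc, he.2, one_mul]
          have h3 : e * f * e = f := by rw [hcom, mul_assoc, he.2, mul_one]
          have h4 : e * f * f = e := by rw [mul_assoc, hf.2, mul_one]
          have h5 : e * f * (e * f) = 1 := by rw [mul_assoc, h1, he.2]
          rcases hx with hx | hx | hx | hx <;> rcases hy with hy | hy | hy | hy <;> rw [hx, hy] <;>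
            simp [he.2, hf.2, h1, h2, h3, h4, h5, hcom.symm]
      inv_mem' := by
        rintro x ⟨⟨hxe, hx2⟩, hx⟩
        rw [inv_eq_of_mul_eq_one_right hx2]
        exact ⟨⟨hxe, hx2⟩, hx⟩ }
  have hinv : ∀ x ∈ A, x ≠ 1 → IsInv x ∧ x • w = w ∧ x ∈ Subgroup.normalizer (X : Set G) := by
    rintro x ⟨⟨-, hx2⟩, hx⟩ h1
    refine ⟨⟨h1, hx2⟩, ?_⟩
    rcases hx with rfl | rfl | rfl | rfl
    · exact absurd rfl h1
    · exact ⟨hw, hen⟩
    · exact ⟨hfw, hfn⟩
    · exact ⟨by rw [mul_smul, hfw, hw], mul_mem hen hfn⟩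
  have hnorm : A ≤ Subgroup.normalizer (X : Set G) := fun x hx => by
    by_cases h1 : x = 1
    · exact h1 ▸ one_mem _
    · exact (hinv x hx h1).2.2
  haveI : Fact (Nat.Prime 2) := ⟨Nat.prime_two⟩
  haveI : IsMulCommutative A := ⟨⟨fun x y => Subtype.ext (by
    have h1 : ((x : G) * y) * ((x : G) * y) = 1 := (mul_mem x.2 y.2 : (x : G) * y ∈ A).1.2
    have h2 : (x : G)⁻¹ = x := inv_eq_of_mul_eq_one_right x.2.1.2
    have h3 : (y : G)⁻¹ = y := inv_eq_of_mul_eq_one_right y.2.1.2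
    show (x : G) * y = (y : G) * x
    rw [← inv_eq_of_mul_eq_one_right h1, mul_inv_rev, h2, h3])⟩⟩
  have hpg : IsPGroup 2 A := fun x => ⟨1, by rw [pow_one, pow_two]; exact Subtype.ext x.2.1.2⟩
  have heA : e ∈ A := ⟨⟨rfl, he.2⟩, Or.inr (Or.inl rfl)⟩
  have hfA : f ∈ A := ⟨⟨hcom.symm, hf.2⟩, Or.inr (Or.inr (Or.inl rfl))⟩
  have hnc : ¬ IsCyclic A := fun hcyc => by
    obtain ⟨g, hg⟩ := hcyc.exists_generator
    have key : ∀ x : A, x ≠ 1 → x = g := fun x hx => by
      obtain ⟨n, rfl⟩ := Subgroup.mem_zpowers_iff.mp (hg x)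
      obtain ⟨k, rfl | rfl⟩ := Int.even_or_odd' n
      · exact absurd (by rw [zpow_mul, zpow_two, show g * g = 1 from Subtype.ext g.2.1.2, one_zpow]) hx
      · rw [zpow_add_one, zpow_mul, zpow_two, show g * g = 1 from Subtype.ext g.2.1.2, one_zpow, one_mul]
    exact hne (congrArg Subtype.val ((key ⟨e, heA⟩ fun h => he.1 (congrArg Subtype.val h)).trans
      (key ⟨f, hfA⟩ fun h => hf.1 (congrArg Subtype.val h)).symm))
  have hcop : (Nat.card A).Coprime (Nat.card X) := IsPGroup.coprime_card_of_ne 2 p hp2.symm _ _ hpg hX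
  have hle : X ≤ stabilizer G w := by
    rw [← coprime_generated_by_centralizers hnc hnorm hcop]
    refine iSup₂_le fun x hx => fun y hy => mem_stabilizer_iff.mpr ?_
    obtain ⟨h1, h2, -⟩ := hinv x hx.1 hx.2
    exact commute_fix hF h1 h2 (Subgroup.mem_centralizer_singleton_iff.mp hy.2)
  exact inv_fpf hF hNB hp2 hX hodd hpair he hen (fun x hx => mem_stabilizer_iff.mp (hle hx)) hw

/-- Two fixed points are exchanged in the normaliser or are the fixed points of a Sylow subgroup of it. -/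
theorem pair_cases
    (ih : ∀ Y : Subgroup G, X < Y → IsPGroup p Y → ∀ c d e : Ω, c ∈ fixSet Ω Y → d ∈ fixSet Ω Y →
      e ∈ fixSet Ω Y → c ≠ d → c ≠ e → d ≠ e → False)
    {c d : Ω} (hc : c ∈ fixSet Ω X) (hd : d ∈ fixSet Ω X) (hne : c ≠ d) :
    (∃ x ∈ Subgroup.normalizer (X : Set G), IsInv x ∧ x • c = d) ∨
      ∃ P, MaxP p (Subgroup.normalizer (X : Set G)) P ∧ X ≤ P ∧ c ∈ fixSet Ω P ∧ d ∈ fixSet Ω P ∧
        ∀ e ∈ fixSet Ω P, e = c ∨ e = d := by
  set N := Subgroup.normalizer (X : Set G) with hN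
  set D : Subgroup G := two c d
  have hXD : X ≤ D := fun x hx => mem_two.mpr ⟨hc x hx, hd x hx⟩
  obtain ⟨Y, hXY, hY⟩ := exists_maxP hX (le_inf Subgroup.le_normalizer hXD : X ≤ N ⊓ D)
  rcases hXY.eq_or_lt with rfl | hlt
  · left
    have hmax : MaxP p D X := by
      obtain ⟨Z, hXZ, hZ⟩ := exists_maxP hX hXD
      rcases hXZ.eq_or_lt with rfl | hlt'
      · exact hZ
      obtain ⟨g, hg, hgX, hgn⟩ := exists_mem_normalizer hZ.isPGroup hlt'
      have h2 := hY.eq_of_le (hZ.isPGroup.to_le (sup_le hXZ (Subgroup.zpowers_le.mpr hg)))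
        (sup_le (le_inf Subgroup.le_normalizer hXD) (Subgroup.zpowers_le.mpr ⟨hgn, hZ.le hg⟩)) le_sup_left
      exact absurd ((le_sup_right : _ ≤ X ⊔ Subgroup.zpowers g).trans h2.le (Subgroup.mem_zpowers g)) hgX
    obtain ⟨⟨u, hu, huc⟩⟩ := exists_swap hF hne
    have hud : u • d = c := by rw [← huc, hu.smul_twice]
    have hun : ∀ k ∈ D, u * k * u⁻¹ ∈ D := fun k hk => by
      obtain ⟨h1, h2⟩ := mem_two.mp hk
      rw [hu.inv]
      exact mem_two.mpr ⟨by rw [mul_smul, mul_smul, huc, h2, hud], by rw [mul_smul, mul_smul, hud, h1, huc]⟩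
    obtain ⟨R, hR, huR⟩ := exists_invariant_maxP (p := p) (odd_two hF hne) hu.2 hun
    obtain ⟨g, hg, hgR⟩ := hR.conj hmax
    obtain ⟨h1, h2⟩ := mem_two.mp hg
    refine ⟨g * u * g⁻¹, mem_normalizer_of_conj fun x hx => ?_, hu.conj g, ?_⟩
    · have h3 : g⁻¹ * x * g ∈ R := (hgR _).mpr (by simpa [mul_assoc] using hx)
      have h4 := (hgR _).mp (conj_mem_of_normalizer huR h3)
      simpa [mul_assoc] using h4
    · rw [mul_smul, mul_smul, inv_smul_eq_iff.mpr h1.symm, huc, h2]
  · right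
    have hcY : c ∈ fixSet Ω Y := fun x hx => (mem_two.mp (hY.le hx).2).1
    have hdY : d ∈ fixSet Ω Y := fun x hx => (mem_two.mp (hY.le hx).2).2
    have honly : ∀ e ∈ fixSet Ω Y, e = c ∨ e = d := fun e he => by
      by_contra h
      push Not at h
      exact ih Y hlt hY.isPGroup c d e hcY hdY he hne (Ne.symm h.1) (Ne.symm h.2)
    obtain ⟨P, hYP, hP⟩ := exists_maxP hY.isPGroup (hY.le.trans inf_le_left : Y ≤ N)
    rcases hYP.eq_or_lt with rfl | hlt'
    · exact ⟨Y, hP, hXY, hcY, hdY, honly⟩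
    exfalso
    obtain ⟨g, hg, hgY, hgn⟩ := exists_mem_normalizer hP.isPGroup hlt'
    have hgc : g • c = c := by
      refine mem_stabilizer_iff.mp (mem_of_sq_mem (odd_orderOf_of_pGroup hp2 hP.isPGroup hg)
        (mem_stabilizer_iff.mpr ?_))
      rw [mul_smul]
      rcases honly _ (fixSet_smul hgn hcY) with e | e
      · rw [e, e]
      · rw [e]
        rcases honly _ (fixSet_smul hgn hdY) with e' | e'
        · exact e'
        · exact absurd (smul_left_cancel g (e'.trans e.symm)) hne.symm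
    have hgd : g • d = d := by
      rcases honly _ (fixSet_smul hgn hdY) with e | e
      · exact absurd (smul_left_cancel g (e.trans hgc.symm)) hne.symm
      · exact e
    have h2 := hY.eq_of_le (hP.isPGroup.to_le (sup_le hYP (Subgroup.zpowers_le.mpr hg)))
      (sup_le hY.le (Subgroup.zpowers_le.mpr ⟨hP.le hg, mem_two.mpr ⟨hgc, hgd⟩⟩)) le_sup_left
    exact hgY ((le_sup_right : _ ≤ Y ⊔ Subgroup.zpowers g).trans h2.le (Subgroup.mem_zpowers g))

/-- Two involutions of the normaliser with an involution commuting with both coincide. -/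
theorem eq_of_even {x z : G} (hx : IsInv x) (hz : IsInv z)
    (hxn : x ∈ Subgroup.normalizer (X : Set G)) (hzn : z ∈ Subgroup.normalizer (X : Set G))
    (he : Even (orderOf (z * x))) : x = z := by
  obtain ⟨h1, h2⟩ := CfsgLib.Involutions.central_half hz.2 hx.2 he
  obtain ⟨hw2, hw1⟩ := CfsgLib.Involutions.orderOf_eq_two_iff'.mp (CfsgLib.Involutions.orderOf_half he)
  have hwn := pow_mem (mul_mem hzn hxn) (orderOf (z * x) / 2)
  have e1 : (z * x) ^ (orderOf (z * x) / 2) = z :=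
    by_contra fun h => no_four hF hNB hp2 hX hodd hpair ⟨hw1, hw2⟩ hz h h1.eq hwn hzn
  rw [e1] at h2
  exact by_contra fun h => no_four hF hNB hp2 hX hodd hpair hz hx (Ne.symm h) h2.eq hzn hxn

omit hX hodd hpair in
/-- Step 2 of the blueprint. -/
theorem fix_le_two : ∀ X : Subgroup G, IsPGroup p X → OddCent X → ∀ c d e : Ω, c ∈ fixSet Ω X →
    d ∈ fixSet Ω X → e ∈ fixSet Ω X → c ≠ d → c ≠ e → d ≠ e → False := by
  intro X
  induction X using WellFoundedGT.induction with
  | _ X ihX =>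
  intro hX hodd c d e hc hd he hcd hce hde
  have ih : ∀ Y : Subgroup G, X < Y → IsPGroup p Y → ∀ c d e : Ω, c ∈ fixSet Ω Y → d ∈ fixSet Ω Y →
      e ∈ fixSet Ω Y → c ≠ d → c ≠ e → d ≠ e → False :=
    fun Y hlt hY => ihX Y hlt hY (hodd.mono hlt.le)
  have hpair : ∃ c d : Ω, c ∈ fixSet Ω X ∧ d ∈ fixSet Ω X ∧ c ≠ d := ⟨c, d, hc, hd, hcd⟩
  set N := Subgroup.normalizer (X : Set G) with hN
  by_cases hinv : ∃ z ∈ N, IsInv z
  swap
  · push Not at hinv
    have hW : ∀ {c' d' : Ω}, c' ∈ fixSet Ω X → d' ∈ fixSet Ω X → c' ≠ d' →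
        ∃ P, MaxP p N P ∧ c' ∈ fixSet Ω P ∧ d' ∈ fixSet Ω P ∧ ∀ e ∈ fixSet Ω P, e = c' ∨ e = d' := by
      intro c' d' hc' hd' hne
      rcases pair_cases hF hNB hp2 hX hodd hpair ih hc' hd' hne with ⟨x, hx, hxi, -⟩ | ⟨P, hP, -, h1, h2, h3⟩
      · exact absurd hxi (hinv x hx)
      · exact ⟨P, hP, h1, h2, h3⟩
    have turn : ∀ {r q q' : Ω}, r ∈ fixSet Ω X → q ∈ fixSet Ω X → q' ∈ fixSet Ω X → r ≠ q → r ≠ q' →
        ∃ g ∈ N, g • r = r ∧ g • q = q' := by
      intro r q q' hr hq hq' hne hne'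
      obtain ⟨P, hP, hrP, hqP, -⟩ := hW hr hq hne
      obtain ⟨P', hP', hrP', -, honly⟩ := hW hr hq' hne'
      have hle : ∀ {P : Subgroup G}, MaxP p N P → r ∈ fixSet Ω P → MaxP p (N ⊓ stabilizer G r) P :=
        fun hP hrP => hP.of_le inf_le_left (le_inf hP.le fun x hx => mem_stabilizer_iff.mpr (hrP x hx))
      obtain ⟨g, hg, hgP⟩ := (hle hP hrP).conj (hle hP' hrP')
      have hgr := mem_stabilizer_iff.mp hg.2
      have hfix : g • q ∈ fixSet Ω P' := fun x hx => by
        have h := hqP _ ((hgP (g⁻¹ * x * g)).mpr (by simpa [mul_assoc] using hx))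
        rwa [mul_smul, mul_smul, inv_smul_eq_iff] at h
      rcases honly _ hfix with h | h
      · exact absurd (smul_left_cancel g (h.trans hgr.symm)).symm hne
      · exact ⟨g, hg.1, hgr, h⟩
    obtain ⟨g1, h1, h1c, h1d⟩ := turn hc hd he hcd hce
    obtain ⟨g2, h2, h2e, h2c⟩ := turn he hc hd hce.symm hde.symm
    obtain ⟨g3, h3, h3d, h3e⟩ := turn hd he hc hde hcd.symm
    have hg : g3 * g2 * g1 ∈ N := mul_mem (mul_mem h3 h2) h1
    have hgc : (g3 * g2 * g1) • c = d := by rw [mul_smul, mul_smul, h1c, h2c, h3d]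
    have hgd : (g3 * g2 * g1) • d = c := by rw [mul_smul, mul_smul, h1d, h2e, h3e]
    refine hcd ?_
    have hodd' : Odd (orderOf (g3 * g2 * g1)) :=
      odd_orderOf (odd_card_of_forall fun x hx => hinv x hx) hg
    have h4 := mem_of_sq_mem (H := stabilizer G c) hodd' (mem_stabilizer_iff.mpr (by rw [mul_smul, hgc, hgd]))
    rwa [mem_stabilizer_iff, hgc, eq_comm] at h4
  obtain ⟨z', hz'N, hz'i⟩ := hinv
  have heven : Even (Nat.card N) := by
    rw [even_iff_two_dvd, ← CfsgLib.Involutions.orderOf_eq_two_iff'.mpr ⟨hz'i.2, hz'i.1⟩]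
    exact Subgroup.orderOf_dvd_natCard N hz'N
  have hrank : ∀ E : Subgroup N, ¬ IsKleinFour E := by
    intro E hE
    have h2 : ∀ x : E, x * x = 1 := fun x => by
      rw [← pow_two, ← hE.exponent_two]; exact Monoid.pow_exponent_eq_one x
    haveI := Fintype.ofFinite E
    obtain ⟨x, y, hx, hy, hxy⟩ : ∃ x y : E, x ≠ 1 ∧ y ≠ 1 ∧ x ≠ y := by
      have h4 : 2 < Fintype.card E := by rw [← Nat.card_eq_fintype_card, hE.card_four]; norm_num
      obtain ⟨p1, p2, p3, h12, h13, h23⟩ := Fintype.two_lt_card_iff.mp h4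
      rcases eq_or_ne p1 1 with rfl | hp1
      · exact ⟨p2, p3, h12.symm, h13.symm, h23⟩
      rcases eq_or_ne p2 1 with rfl | hp2'
      · exact ⟨p1, p3, hp1, h23.symm, h13⟩
      · exact ⟨p1, p2, hp1, hp2', h12⟩
    have hinvE : ∀ x : E, x ≠ 1 → IsInv ((x : N) : G) := fun x hx =>
      ⟨fun e => hx (Subtype.ext (Subtype.ext e)), congrArg (fun w : E => ((w : N) : G)) (h2 x)⟩
    refine no_four hF hNB hp2 hX hodd hpair (hinvE x hx) (hinvE y hy)
      (fun e => hxy (Subtype.ext (Subtype.ext e))) ?_ x.1.2 y.1.2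
    refine congrArg (fun w : E => ((w : N) : G)) (show x * y = y * x from ?_)
    calc x * y = x * (x * y * (x * y)) * y := by rw [h2, mul_one]
      _ = x * x * (y * x) * (y * y) := by group
      _ = y * x := by rw [h2, h2, one_mul, mul_one]
  obtain ⟨z0, hz0, O0, hO0n, hO0odd, hO0⟩ := Cfsg.Agent.S0225.result heven hrank
  set z : G := (z0 : G) with hzdef
  set O : Subgroup G := O0.map N.subtype with hOdef
  obtain ⟨hz2, hz1⟩ := CfsgLib.Involutions.orderOf_eq_two_iff'.mp hz0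
  have hzi : IsInv z := ⟨fun e => hz1 (Subtype.ext e), congrArg Subtype.val hz2⟩
  have hON : O ≤ N := Subgroup.map_subtype_le O0
  have hOodd : Odd (Nat.card O) := by rwa [hOdef, Subgroup.card_map_of_injective N.subtype_injective]
  have hcomm : ∀ g ∈ N, z * g * z⁻¹ * g⁻¹ ∈ O := fun g hg => ⟨_, hO0 ⟨g, hg⟩, rfl⟩
  have hOn : ∀ g ∈ N, ∀ o ∈ O, g * o * g⁻¹ ∈ O := by
    rintro g hg _ ⟨o, ho, rfl⟩
    exact ⟨_, hO0n.conj_mem o ho ⟨g, hg⟩, rfl⟩
  have hclass : ∀ x ∈ N, IsInv x → z * x ∈ O := by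
    intro x hx hxi
    rcases Nat.even_or_odd (orderOf (z * x)) with he | ho
    · rw [eq_of_even hF hNB hp2 hX hodd hpair hxi hzi hx z0.2 he, hzi.2]
      exact one_mem O
    · refine mem_of_sq_mem ho ?_
      have := hcomm x hx
      rwa [hzi.inv, hxi.inv, mul_assoc (z * x)] at this
  have hcross : ∀ x ∈ N, IsInv x → ∀ r ∈ fixSet Ω X, ∀ o ∈ O, x • r ≠ o • r := by
    intro x hx hxi r hr o ho hxo
    haveI : Fact (Nat.Prime 2) := ⟨Nat.prime_two⟩
    classical
    haveI : Finite (MulAction.orbit O r) := Finite.of_equiv _ (MulAction.orbitEquivQuotientStabilizer O r).symm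
    haveI := Fintype.ofFinite (MulAction.orbit O r)
    have hmaps : ∀ q : MulAction.orbit O r, x • (q : Ω) ∈ MulAction.orbit O r := by
      rintro ⟨_, o', rfl⟩
      refine ⟨⟨x * o' * x⁻¹ * o, mul_mem (hOn x hx _ o'.2) ho⟩, ?_⟩
      show (x * (o' : G) * x⁻¹ * o) • r = x • (o' : G) • r
      rw [mul_smul, ← hxo, mul_smul, inv_smul_smul, mul_smul]
    let σ : Equiv.Perm (MulAction.orbit O r) :=
      Function.Involutive.toPerm (fun q => ⟨x • (q : Ω), hmaps q⟩)
        (fun q => Subtype.ext (hxi.smul_twice (q : Ω)))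
    have hcard : ¬ 2 ∣ Fintype.card (MulAction.orbit O r) := fun h => Nat.not_even_iff_odd.mpr hOodd
      (even_iff_two_dvd.mpr (h.trans (by
        rw [← Nat.card_eq_fintype_card, Nat.card_congr (MulAction.orbitEquivQuotientStabilizer O r),
          ← Subgroup.index_eq_card]
        exact Subgroup.index_dvd_card _)))
    obtain ⟨⟨_, o', rfl⟩, hfix⟩ := Equiv.Perm.exists_fixed_point_of_prime hcard (σ := σ) (n := 1) (by
      rw [pow_one, pow_two]
      exact Equiv.ext fun q => Subtype.ext (hxi.smul_twice (q : Ω)))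
    exact inv_fpf hF hNB hp2 hX hodd hpair hxi hx (fixSet_smul (hON o'.2) hr) (congrArg Subtype.val hfix)
  have hswap : ∀ {c' d' : Ω}, c' ∈ fixSet Ω X → d' ∈ fixSet Ω X → c' ≠ d' →
      ∃ x ∈ N, IsInv x ∧ x • c' = d' := by
    intro c' d' hc' hd' hne
    rcases pair_cases hF hNB hp2 hX hodd hpair ih hc' hd' hne with h | ⟨P, hP, hXP, hcP, hdP, honly⟩
    · exact h
    set K : Subgroup G := P ⊔ O with hK
    have hPnO : P ≤ Subgroup.normalizer (O : Set G) := fun g hg =>
      mem_normalizer_of_conj fun o ho => hOn g (hP.le hg) o ho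
    have hKN : K ≤ N := sup_le hP.le hON
    have hdec : ∀ g ∈ K, ∃ π ∈ P, ∃ o ∈ O, g = π * o := fun g hg => by
      rw [hK, ← SetLike.mem_coe, Subgroup.coe_mul_of_left_le_normalizer_right _ _ hPnO] at hg
      obtain ⟨π, hπ, o, ho, rfl⟩ := Set.mem_mul.mp hg
      exact ⟨π, hπ, o, ho, rfl⟩
    have hKodd : Odd (Nat.card K) := odd_card_of_forall fun g hg hgi => by
      obtain ⟨π, hπ, o, ho, rfl⟩ := hdec g hg
      have h2 : π * π ∈ O := by
        have h4 : π * o * π = o⁻¹ := eq_inv_of_mul_eq_one_left (by rw [mul_assoc (π * o), hgi.2])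
        rw [show π * π = (π * o * π) * (π⁻¹ * o⁻¹ * π) by group, h4]
        refine mul_mem (inv_mem ho) ?_
        simpa using hOn π⁻¹ (inv_mem (hP.le hπ)) _ (inv_mem ho)
      have h6 : π * o ∈ O := mul_mem (mem_of_sq_mem (odd_orderOf_of_pGroup hp2 hP.isPGroup hπ) h2) ho
      exact hgi.1 (eq_one_of_two_odd (by rw [pow_two, hgi.2]) (odd_orderOf hOodd h6))
    have hzK : ∀ k ∈ K, z * k * z⁻¹ ∈ K := fun k hk => by
      rw [show z * k * z⁻¹ = z * k * z⁻¹ * k⁻¹ * k by group]
      exact mul_mem ((le_sup_right : O ≤ K) (hcomm k (hKN hk))) hk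
    obtain ⟨R, hR, hzR⟩ := exists_invariant_maxP (p := p) hKodd hzi.2 hzK
    obtain ⟨g, hg, hgP⟩ := (hP.of_le hKN le_sup_left).conj hR
    have hgN := hKN hg
    have hmap : ∀ {r : Ω}, r ∈ fixSet Ω P → g • r ∈ fixSet Ω R := fun {r} hr x hx => by
      have h := hr _ ((hgP (g⁻¹ * x * g)).mpr (by simpa [mul_assoc] using hx))
      rwa [mul_smul, mul_smul, inv_smul_eq_iff] at h
    refine ⟨g⁻¹ * z * g, mul_mem (mul_mem (inv_mem hgN) z0.2) hgN,
      by simpa using hzi.conj g⁻¹, ?_⟩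
    have hback : g⁻¹ • z • g • c' ∈ fixSet Ω P := fun x hx => by
      have h := fixSet_smul hzR (hmap hcP) (g * x * g⁻¹) ((hgP x).mp hx)
      rw [mul_smul, mul_smul] at h
      rw [← smul_left_cancel_iff g, smul_inv_smul]
      exact h
    rw [mul_smul, mul_smul]
    rcases honly _ hback with h | h
    · exact absurd (inv_smul_eq_iff.mp h)
        (inv_fpf hF hNB hp2 hX hodd hpair hzi z0.2 (fixSet_smul hgN hc'))
    · exact h
  have hOfix : ∀ o ∈ O, ∀ r ∈ fixSet Ω X, o • r = r := by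
    intro o ho r hr
    by_contra hne
    obtain ⟨x, hx, hxi, hxr⟩ := hswap hr (fixSet_smul (hON ho) hr) (Ne.symm hne)
    exact hcross x hx hxi r hr o ho hxr
  have hz : ∀ {c' d' : Ω}, c' ∈ fixSet Ω X → d' ∈ fixSet Ω X → c' ≠ d' → z • c' = d' := by
    intro c' d' hc' hd' hne
    obtain ⟨x, hx, hxi, hxc⟩ := hswap hc' hd' hne
    rw [show z = (z * x) * x by rw [mul_assoc, hxi.2, mul_one], mul_smul, hxc]
    exact hOfix _ (hclass x hx hxi) _ hd'
  exact hde ((hz hc hd hcd).symm.trans (hz hc he hce))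

end OneFix

end CfsgLib.Bender
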