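import Cfsg.Agent.Lib.SuzukiRankOne.Defs
import Cfsg.Agent.Lib.Involutions

/-!
Transitive actions in which every involution fixes exactly one point, with a four group: first facts.
They hold for the cosets of a strongly embedded subgroup with trivial core.

Blueprint: `blueprint/bender/A.md`, A1.
-/

set_option autoImplicit false
set_option linter.unusedSectionVars false
set_option linter.style.haveILetI false

universe u v

namespace CfsgLib.Bender.TwoClosed

open MulAction

variable {G : Type u} {Ω : Type v} [Group G] [MulAction G Ω]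

/-- An involution. -/
def IsInv (x : G) : Prop := x ≠ 1 ∧ x * x = 1

/-- The two-point stabiliser. -/
abbrev two (a b : Ω) : Subgroup G := stabilizer G a ⊓ stabilizer G b

/-- The involutions fixing `a`. -/
abbrev InvAt (G : Type u) [Group G] [MulAction G Ω] (a : Ω) : Type u := {x : G // IsInv x ∧ x • a = a}

/-- The involutions exchanging `a` and `b`. -/
abbrev Swap (G : Type u) [Group G] [MulAction G Ω] (a b : Ω) : Type u := {x : G // IsInv x ∧ x • a = b}

theorem IsInv.inv {x : G} (h : IsInv x) : x⁻¹ = x := inv_eq_of_mul_eq_one_right h.2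

theorem IsInv.conj {x : G} (h : IsInv x) (g : G) : IsInv (g * x * g⁻¹) :=
  ⟨fun e => h.1 (conj_eq_one_iff.mp e), by rw [conj_mul, h.2, mul_one, mul_inv_cancel]⟩

theorem IsInv.smul_twice {x : G} (h : IsInv x) (c : Ω) : x • x • c = c := by
  rw [smul_smul, h.2, one_smul]

theorem smul_conj {g x : G} {c : Ω} (h : x • c = c) : (g * x * g⁻¹) • g • c = g • c := by
  rw [smul_smul, inv_mul_cancel_right, mul_smul, h]

theorem mem_two {a b : Ω} {g : G} : g ∈ two a b ↔ g • a = a ∧ g • b = b := by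
  simp [two, Subgroup.mem_inf]

theorem mem_two_comm {a b : Ω} : (two a b : Subgroup G) = two b a := inf_comm _ _

theorem exists_inv_of_even [Finite G] {K : Subgroup G} (h : Even (Nat.card K)) : ∃ x ∈ K, IsInv x := by
  haveI : Fact (Nat.Prime 2) := ⟨Nat.prime_two⟩
  obtain ⟨z, hz⟩ := exists_prime_orderOf_dvd_card' (G := K) 2 h.two_dvd
  obtain ⟨h2, h1⟩ := CfsgLib.Involutions.orderOf_eq_two_iff'.mp hz
  exact ⟨z, z.2, fun e => h1 (Subtype.ext e), congrArg Subtype.val h2⟩

theorem odd_card_of_forall [Finite G] {K : Subgroup G} (h : ∀ x ∈ K, ¬ IsInv x) : Odd (Nat.card K) :=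
  Nat.not_even_iff_odd.mp fun he => by obtain ⟨x, hx, hi⟩ := exists_inv_of_even he; exact h x hx hi

theorem odd_orderOf [Finite G] {K : Subgroup G} (h : Odd (Nat.card K)) {x : G} (hx : x ∈ K) :
    Odd (orderOf x) :=
  h.of_dvd_nat (Subgroup.orderOf_dvd_natCard K hx)

theorem eq_one_of_two_odd {x : G} (h : x ^ 2 = 1) (hodd : Odd (orderOf x)) : x = 1 := by
  rcases (Nat.dvd_prime Nat.prime_two).mp (orderOf_dvd_of_pow_eq_one h) with e | e
  · exact orderOf_eq_one_iff.mp e
  · rw [e] at hodd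
    exact absurd hodd (by decide)

/-- An element of odd order inverted and centralised by the same element is trivial. -/
theorem eq_one_of_inv_eq {x : G} (h : x⁻¹ = x) (hodd : Odd (orderOf x)) : x = 1 :=
  eq_one_of_two_odd (by rw [pow_two, ← eq_inv_iff_mul_eq_one, h]) hodd

theorem IsInv.swap_back {x : G} {a b : Ω} (hx : IsInv x) (h : x • a = b) : x • b = a := by
  rw [← h, hx.smul_twice]

end CfsgLib.Bender.TwoClosed

namespace CfsgLib.Bender

open MulAction CfsgLib.SuzukiRankOne CfsgLib.Bender.TwoClosed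

/-- A transitive action in which every involution fixes exactly one point, with a four group. -/
structure OneFix (G : Type u) (Ω : Type v) [Group G] [MulAction G Ω] : Prop where
  trans : IsPretransitive G Ω
  one_fix : ∀ x : G, IsInv x → ∃! c : Ω, x • c = c
  four : Four G

/-- No non-identity element inverted by an involution at a point fixes that point and another one. -/
def NoBad (G : Type u) (Ω : Type v) [Group G] [MulAction G Ω] : Prop :=
  ∀ (u y : G) (a b : Ω), IsInv u → u • a = a → u * y * u = y⁻¹ → y • a = a → b ≠ a → y • b = b → y = 1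

namespace OneFix

variable {G : Type u} {Ω : Type v} [Group G] [MulAction G Ω] {a b : Ω} (hF : OneFix G Ω)
include hF

theorem eq_of_fix {x : G} (hx : IsInv x) {c d : Ω} (hc : x • c = c) (hd : x • d = d) : c = d :=
  (hF.one_fix x hx).unique hc hd

theorem exists_fix {x : G} (hx : IsInv x) : ∃ c : Ω, x • c = c := (hF.one_fix x hx).exists

theorem commute_fix {x g : G} (hx : IsInv x) {c : Ω} (hc : x • c = c) (h : g * x = x * g) : g • c = c :=
  eq_of_fix hF hx (by rw [← mul_smul, ← h, mul_smul, hc]) hc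

theorem exists_inv : ∃ x : G, IsInv x := by
  obtain ⟨x, y, hx, -, -, hx2, -, -⟩ := hF.four
  exact ⟨x, hx, hx2⟩

theorem exists_inv_at (c : Ω) : ∃ x : G, IsInv x ∧ x • c = c := by
  haveI := hF.trans
  obtain ⟨x, hx⟩ := exists_inv hF
  obtain ⟨d, hd⟩ := exists_fix hF hx
  obtain ⟨g, rfl⟩ := exists_smul_eq G d c
  exact ⟨g * x * g⁻¹, hx.conj g, smul_conj hd⟩

theorem exists_two_at (c : Ω) : ∃ x y : G, IsInv x ∧ x • c = c ∧ IsInv y ∧ y • c = c ∧ x ≠ y := by
  haveI := hF.trans
  obtain ⟨x, y, hx, hy, hne, hx2, hy2, hxy⟩ := hF.four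
  obtain ⟨d, hd⟩ := exists_fix hF ⟨hx, hx2⟩
  have hyd : y • d = d := commute_fix hF ⟨hx, hx2⟩ hd hxy.symm
  obtain ⟨g, rfl⟩ := exists_smul_eq G d c
  exact ⟨g * x * g⁻¹, g * y * g⁻¹, IsInv.conj ⟨hx, hx2⟩ g, smul_conj hd, IsInv.conj ⟨hy, hy2⟩ g,
    smul_conj hyd, fun e => hne (mul_left_cancel (mul_right_cancel e))⟩

variable [Finite G]

theorem odd_two {c d : Ω} (hne : c ≠ d) : Odd (Nat.card (two c d : Subgroup G)) :=
  odd_card_of_forall fun _ hx hi => hne (eq_of_fix hF hi (mem_two.mp hx).1 (mem_two.mp hx).2)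

theorem odd_mul {i j : G} {c d : Ω} (hi : IsInv i) (hc : i • c = c) (hj : IsInv j) (hd : j • d = d)
    (hne : c ≠ d) : Odd (orderOf (i * j)) := by
  by_contra hodd
  rw [Nat.not_odd_iff_even] at hodd
  obtain ⟨h1, h2⟩ := CfsgLib.Involutions.central_half hi.2 hj.2 hodd
  obtain ⟨hz2, hz1⟩ := CfsgLib.Involutions.orderOf_eq_two_iff'.mp (CfsgLib.Involutions.orderOf_half hodd)
  obtain ⟨e, he⟩ := exists_fix hF ⟨hz1, hz2⟩
  exact hne ((eq_of_fix hF hi hc (commute_fix hF ⟨hz1, hz2⟩ he h1.eq.symm)).trans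
    (eq_of_fix hF hj (commute_fix hF ⟨hz1, hz2⟩ he h2.eq.symm) hd))

theorem swap_points {i j u : G} {c d : Ω} (hi : IsInv i) (hc : i • c = c) (hj : IsInv j) (hd : j • d = d)
    (hu : IsInv u) (he : u * i * u = j) : u • c = d ∧ u • d = c := by
  have h1 : u • c = d := by
    refine eq_of_fix hF hj ?_ hd
    rw [← he, mul_smul, mul_smul, hu.smul_twice, hc]
  exact ⟨h1, by rw [← h1, hu.smul_twice]⟩

theorem exists_swap_conj {i j : G} {c d : Ω} (hi : IsInv i) (hc : i • c = c) (hj : IsInv j)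
    (hd : j • d = d) (hne : c ≠ d) : ∃ u, IsInv u ∧ u * i * u = j ∧ u ∈ Subgroup.closure ({i, j} : Set G) := by
  obtain ⟨l, hl⟩ := odd_mul hF hi hc hj hd hne
  have hpow : (i * j) ^ ((l : ℤ) + l) = j * i := by
    rw [show (l : ℤ) + l = ((2 * l + 1 : ℕ) : ℤ) + (-1) by push_cast; ring, zpow_add, zpow_natCast, ← hl,
      pow_orderOf_eq_one, one_mul, zpow_neg_one, mul_inv_rev, hi.inv, hj.inv]
  have hcl : (i * j) ^ (l : ℤ) * i ∈ Subgroup.closure ({i, j} : Set G) :=
    mul_mem (zpow_mem (mul_mem (Subgroup.subset_closure (Set.mem_insert i {j}))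
      (Subgroup.subset_closure (Set.mem_insert_of_mem i (Set.mem_singleton j)))) _)
      (Subgroup.subset_closure (Set.mem_insert i {j}))
  have he : (i * j) ^ (l : ℤ) * i * i * ((i * j) ^ (l : ℤ) * i) = j := by
    rw [mul_assoc _ i i, hi.2, mul_one, ← mul_assoc, ← zpow_add, hpow, mul_assoc, hi.2, mul_one]
  refine ⟨_, ⟨fun e => hne ?_, ?_⟩, he, hcl⟩
  · rw [e, one_mul, mul_one] at he
    subst he
    exact eq_of_fix hF hi hc hd
  · nth_rewrite 2 [CfsgLib.Involutions.zpow_mul_eq hi.2 hj.2]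
    rw [← mul_assoc, mul_assoc _ i i, hi.2, mul_one, ← zpow_add, add_neg_cancel, zpow_zero]

theorem exists_swap {c d : Ω} (hne : c ≠ d) : Nonempty (Swap G c d) := by
  obtain ⟨i, hi, hc⟩ := exists_inv_at hF c
  obtain ⟨j, hj, hd⟩ := exists_inv_at hF d
  obtain ⟨u, hu, he, -⟩ := exists_swap_conj hF hi hc hj hd hne
  exact ⟨⟨u, hu, (swap_points hF hi hc hj hd hu he).1⟩⟩

theorem exists_ne [FaithfulSMul G Ω] (a : Ω) : ∃ b : Ω, b ≠ a := by
  by_contra h
  push Not at h
  obtain ⟨x, hx⟩ := exists_inv hF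
  exact hx.1 (eq_of_smul_eq_smul (α := Ω) fun c => (h _).trans (h _).symm)

theorem inverted_commute {x u y : G} (hu : IsInv u) (hx : IsInv x) (hy : Odd (orderOf y))
    (hinv : u * y * u = y⁻¹) (hxy : y * x = x * y) {c : Ω} (hxc : x • c = c) (hne : u • c ≠ c) : y = 1 := by
  obtain ⟨e, he⟩ := exists_fix hF hu
  have hodd := odd_mul hF hu he hx hxc (fun h => hne (h ▸ he))
  have h2 : (u * x) * y * (u * x)⁻¹ = y⁻¹ := by
    rw [mul_inv_rev, hu.inv, hx.inv, ← hinv]
    calc u * x * y * (x * u) = u * (x * y) * x * u := by group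
      _ = u * (y * x) * x * u := by rw [hxy]
      _ = u * y * (x * x) * u := by group
      _ = u * y * u := by rw [hx.2, mul_one]
  obtain ⟨n, hn⟩ := CfsgLib.Involutions.exists_sqrt hodd
  have h3 : ((u * x) * (u * x)) * y * ((u * x) * (u * x))⁻¹ = y := by
    calc ((u * x) * (u * x)) * y * ((u * x) * (u * x))⁻¹
        = (u * x) * ((u * x) * y * (u * x)⁻¹) * (u * x)⁻¹ := by group
      _ = ((u * x) * y * (u * x)⁻¹)⁻¹ := by
          conv_lhs => rw [h2]
          group
      _ = y := by rw [h2, inv_inv]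
  have h4 : Commute ((u * x) * (u * x)) y := mul_inv_eq_iff_eq_mul.mp h3
  have h5 : Commute (u * x) y := by
    have := h4.pow_left n
    rwa [(Commute.refl (u * x)).mul_pow, hn] at this
  refine eq_one_of_inv_eq ?_ hy
  rw [← h2, h5.eq, mul_inv_cancel_right]

theorem swap_unique {i u u' : G} {c d : Ω} (hi : IsInv i) (hc : i • c = c) (hne : c ≠ d) (hu : IsInv u)
    (hu' : IsInv u') (hj : (u * i * u) • d = d) (he : u' * i * u' = u * i * u) : u' = u := by
  have hji : IsInv (u * i * u) := by have := hi.conj u; rwa [hu.inv] at this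
  obtain ⟨h1, h2⟩ := swap_points hF hi hc hji hj hu rfl
  obtain ⟨-, h4⟩ := swap_points hF hi hc hji hj hu' he
  obtain ⟨h3, -⟩ := swap_points hF hi hc hji hj hu' he
  have hd : u' * u ∈ two c d := mem_two.mpr ⟨by rw [mul_smul, h1, h4], by rw [mul_smul, h2, h3]⟩
  have hcomm : (u' * u) * i = i * (u' * u) := by
    calc (u' * u) * i = u' * (u * i * u) * u := by simp [mul_assoc, hu.2]
      _ = u' * (u' * i * u') * u := by rw [he]
      _ = i * (u' * u) := by simp [← mul_assoc, hu'.2]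
  have hinv : u * (u' * u) * u = (u' * u)⁻¹ := by
    rw [mul_inv_rev, hu.inv, hu'.inv, mul_assoc, mul_assoc u' u u, hu.2, mul_one]
  have := inverted_commute hF hu hi (odd_orderOf (odd_two hF hne) hd) hinv hcomm hc
    (by rw [h1]; exact hne.symm)
  rw [mul_eq_one_iff_eq_inv, hu.inv] at this
  exact this

theorem exists_conj_stab {i i' : G} {c : Ω} (hi : IsInv i) (hc : i • c = c) (hi' : IsInv i')
    (hc' : i' • c = c) {d : Ω} (hne : c ≠ d) : ∃ g ∈ two c d, g * i * g⁻¹ = i' := by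
  obtain ⟨j, hj, hd⟩ := exists_inv_at hF d
  obtain ⟨u, hu, he, -⟩ := exists_swap_conj hF hi hc hj hd hne
  obtain ⟨u', hu', he', -⟩ := exists_swap_conj hF hi' hc' hj hd hne
  obtain ⟨h1, h2⟩ := swap_points hF hi hc hj hd hu he
  obtain ⟨h3, h4⟩ := swap_points hF hi' hc' hj hd hu' he'
  refine ⟨u' * u, mem_two.mpr ⟨by rw [mul_smul, h1, h4], by rw [mul_smul, h2, h3]⟩, ?_⟩
  rw [mul_inv_rev, hu.inv, hu'.inv]
  calc u' * u * i * (u * u') = u' * (u * i * u) * u' := by group
    _ = u' * (u' * i' * u') * u' := by rw [he, he']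
    _ = i' := by simp [← mul_assoc, hu'.2, mul_assoc i']

theorem card_invAt_eq (c a : Ω) : Nat.card (InvAt G c) = Nat.card (InvAt G a) := by
  haveI := hF.trans
  obtain ⟨g, rfl⟩ := exists_smul_eq G a c
  exact Nat.card_congr
    { toFun := fun x => ⟨g⁻¹ * x * g, by simpa using x.2.1.conj g⁻¹, by
        rw [mul_smul, mul_smul, x.2.2, inv_smul_smul]⟩
      invFun := fun x => ⟨g * x * g⁻¹, x.2.1.conj g, smul_conj x.2.2⟩
      left_inv := fun x => Subtype.ext (by simp [mul_assoc])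
      right_inv := fun x => Subtype.ext (by simp [mul_assoc]) }

theorem card_swap (hb : b ≠ a) : Nat.card (Swap G a b) = Nat.card (InvAt G a) := by
  obtain ⟨i, hi, hia⟩ := exists_inv_at hF a
  rw [← card_invAt_eq hF b a]
  refine Nat.card_eq_of_bijective (fun u : Swap G a b => (⟨u.1 * i * u.1, ?_, ?_⟩ : InvAt G b)) ⟨?_, ?_⟩
  · have := hi.conj u.1
    rwa [u.2.1.inv] at this
  · rw [mul_smul, mul_smul, IsInv.swap_back u.2.1 u.2.2, hia, u.2.2]
  · intro u u' h
    have h' : u.1 * i * u.1 = u'.1 * i * u'.1 := congrArg Subtype.val h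
    refine Subtype.ext (swap_unique hF hi hia hb.symm u'.2.1 u.2.1 ?_ h')
    rw [mul_smul, mul_smul, IsInv.swap_back u'.2.1 u'.2.2, hia, u'.2.2]
  · rintro ⟨j, hj, hjb⟩
    obtain ⟨u, hu, he, -⟩ := exists_swap_conj hF hi hia hj hjb hb.symm
    exact ⟨⟨u, hu, (swap_points hF hi hia hj hjb hu he).1⟩, Subtype.ext he⟩

theorem card_two_eq (hb : b ≠ a) {u : G} (hu : IsInv u) (hua : u • a = b) :
    Nat.card (two a b : Subgroup G) =
      Nat.card (InvAt G a) * Nat.card ↥(two a b ⊓ Subgroup.centralizer ({u} : Set G)) := by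
  set D : Subgroup G := two a b
  set K := (D ⊓ Subgroup.centralizer ({u} : Set G)).subgroupOf D
  rw [Subgroup.card_eq_card_quotient_mul_card_subgroup K,
    Nat.card_congr (Subgroup.subgroupOfEquivOfLe (inf_le_left : D ⊓ Subgroup.centralizer ({u} : Set G) ≤ D)).toEquiv,
    ← card_swap hF hb]
  congr 1
  have hw : ∀ e : D, IsInv ((e : G) * u * (e : G)⁻¹) ∧ ((e : G) * u * (e : G)⁻¹) • a = b := fun e => by
    obtain ⟨h1, h2⟩ := mem_two.mp e.2
    refine ⟨hu.conj e, ?_⟩
    rw [mul_smul, mul_smul, inv_smul_eq_iff.mpr h1.symm, hua, h2]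
  have hiff : ∀ e e' : D, (e : G) * u * (e : G)⁻¹ = (e' : G) * u * (e' : G)⁻¹ ↔ e⁻¹ * e' ∈ K := fun e e' => by
    rw [Subgroup.mem_subgroupOf, Subgroup.mem_inf, Subgroup.mem_centralizer_singleton_iff,
      and_iff_right (e⁻¹ * e').2, Subgroup.coe_mul, Subgroup.coe_inv]
    constructor
    · intro h
      calc (e : G)⁻¹ * e' * u = (e : G)⁻¹ * ((e' : G) * u * (e' : G)⁻¹) * e' := by group
        _ = u * ((e : G)⁻¹ * e') := by rw [← h]; group
    · intro h
      calc (e : G) * u * (e : G)⁻¹ = (e : G) * (u * ((e : G)⁻¹ * e')) * (e' : G)⁻¹ := by group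
        _ = _ := by rw [← h]; group
  refine Nat.card_eq_of_bijective (Quotient.lift (fun e : D => (⟨_, hw e⟩ : Swap G a b)) fun e e' h =>
    Subtype.ext ((hiff e e').mpr (QuotientGroup.leftRel_apply.mp h))) ⟨?_, ?_⟩
  · intro x y h
    induction x using Quotient.inductionOn
    induction y using Quotient.inductionOn
    exact Quotient.sound (QuotientGroup.leftRel_apply.mpr ((hiff _ _).mp (congrArg Subtype.val h)))
  · rintro ⟨w, hw, hwa⟩
    have hd : w * u ∈ D := mem_two.mpr ⟨by rw [mul_smul, hua, IsInv.swap_back hw hwa],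
      by rw [mul_smul, IsInv.swap_back hu hua, hwa]⟩
    obtain ⟨n, hn⟩ := CfsgLib.Involutions.exists_sqrt (odd_orderOf (odd_two hF hb.symm) hd)
    refine ⟨Quotient.mk _ ⟨(w * u) ^ n, pow_mem hd n⟩, Subtype.ext ?_⟩
    have hinv : u * (w * u) ^ n * u = ((w * u) ^ n)⁻¹ := by
      have h1 := conj_pow (i := n) (a := u) (b := w * u)
      rw [hu.inv] at h1
      rw [← h1, mul_assoc, mul_assoc w u u, hu.2, mul_one, ← inv_pow, mul_inv_rev, hu.inv, hw.inv]
    show (w * u) ^ n * u * ((w * u) ^ n)⁻¹ = w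
    rw [← hinv]
    calc (w * u) ^ n * u * (u * (w * u) ^ n * u) = (w * u) ^ n * (u * u) * (w * u) ^ n * u := by group
      _ = w := by rw [hu.2, mul_one, hn, mul_assoc, hu.2, mul_one]


theorem finite_points : Finite Ω := by
  haveI := hF.trans
  cases isEmpty_or_nonempty Ω with
  | inl h => infer_instance
  | inr h => exact Finite.of_surjective (fun g : G => g • Classical.arbitrary Ω) (exists_smul_eq G _)

/-- A swapper of two points normalises their stabiliser. -/
theorem swap_conj_two {u : G} (hu : IsInv u) (hua : u • a = b) :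
    ∀ k ∈ two a b, u * k * u⁻¹ ∈ two a b := fun k hk => by
  obtain ⟨h1, h2⟩ := mem_two.mp hk
  have hub := hu.swap_back hua
  rw [hu.inv]
  exact mem_two.mpr ⟨by rw [mul_smul, mul_smul, hua, h2, hub], by rw [mul_smul, mul_smul, hub, h1, hua]⟩

theorem card_invAt_ge (a : Ω) : 3 ≤ Nat.card (InvAt G a) := by
  haveI := hF.trans
  obtain ⟨x, y, hx, hy, hne, hx2, hy2, hxy⟩ := hF.four
  obtain ⟨d, hd⟩ := exists_fix hF ⟨hx, hx2⟩
  have hyd : y • d = d := commute_fix hF ⟨hx, hx2⟩ hd hxy.symm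
  have hz : IsInv (x * y) := ⟨fun e => hne ((mul_eq_one_iff_eq_inv.mp e).trans (IsInv.inv ⟨hy, hy2⟩)), by
    calc x * y * (x * y) = x * (y * x) * y := by group
      _ = 1 := by rw [← hxy, ← mul_assoc, hx2, one_mul, hy2]⟩
  let f : Fin 3 → InvAt G d :=
    ![⟨x, ⟨hx, hx2⟩, hd⟩, ⟨y, ⟨hy, hy2⟩, hyd⟩, ⟨x * y, hz, by rw [mul_smul, hyd, hd]⟩]
  have hf : Function.Injective f := by
    intro i j h
    have h' := congrArg Subtype.val h
    fin_cases i <;> fin_cases j <;> simp_all [f]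
  rw [card_invAt_eq hF a d]
  simpa using Nat.card_le_card_of_injective f hf

theorem odd_invAt (a : Ω) : Odd (Nat.card (InvAt G a)) := by
  classical
  obtain ⟨x, hx, hxa⟩ := exists_inv_at hF a
  haveI : Fact (Nat.Prime 2) := ⟨Nat.prime_two⟩
  have hmaps : ∀ y : InvAt G a, IsInv (if x * y.1 = y.1 * x ∧ y.1 ≠ x then x * y.1 else x * y.1 * x⁻¹) ∧
      (if x * y.1 = y.1 * x ∧ y.1 ≠ x then x * y.1 else x * y.1 * x⁻¹) • a = a := by
    intro y
    split_ifs with h
    · refine ⟨⟨fun e => h.2 ((mul_eq_one_iff_inv_eq.mp e).symm.trans hx.inv), ?_⟩, ?_⟩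
      · calc x * y.1 * (x * y.1) = x * (y.1 * x) * y.1 := by group
          _ = 1 := by rw [← h.1, ← mul_assoc, hx.2, one_mul, y.2.1.2]
      · rw [mul_smul, y.2.2, hxa]
    · exact ⟨y.2.1.conj x, by rw [mul_smul, mul_smul, inv_smul_eq_iff.mpr hxa.symm, y.2.2, hxa]⟩
  let f : InvAt G a → InvAt G a := fun y => ⟨_, hmaps y⟩
  have hval : ∀ y : InvAt G a,
      (f y).1 = if x * y.1 = y.1 * x ∧ y.1 ≠ x then x * y.1 else x * y.1 * x⁻¹ := fun y => rfl
  have hxx : ∀ z : G, x * (x * z) = z := fun z => by rw [← mul_assoc, hx.2, one_mul]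
  have hinv : Function.Involutive f := fun y => Subtype.ext (by
    rw [hval, hval]
    by_cases h : x * y.1 = y.1 * x ∧ y.1 ≠ x
    · rw [if_pos h, if_pos ⟨by rw [hxx, mul_assoc, ← h.1, hxx], fun e => y.2.1.1 (mul_eq_left.mp e)⟩, hxx]
    · rw [if_neg h, if_neg, hx.inv]
      · simp [mul_assoc, hxx, hx.2]
      · rw [hx.inv]
        rintro ⟨e1, e2⟩
        have e3 : x * y.1 = y.1 * x := by simpa [mul_assoc, hxx, hx.2] using e1.symm
        exact h ⟨e3, fun e => e2 (by rw [e, hx.2, one_mul])⟩)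
  have hfix : ∀ y : InvAt G a, f y = y ↔ y = ⟨x, hx, hxa⟩ := by
    intro y
    refine ⟨fun e => ?_, fun e => ?_⟩
    · have e' := congrArg Subtype.val e
      rw [hval] at e'
      by_cases h : x * y.1 = y.1 * x ∧ y.1 ≠ x
      · rw [if_pos h] at e'
        exact absurd (mul_eq_right.mp e') hx.1
      · rw [if_neg h] at e'
        refine Subtype.ext (by_contra fun hne => h ⟨mul_inv_eq_iff_eq_mul.mp e', hne⟩)
    · subst e
      refine Subtype.ext ?_
      rw [hval, if_neg (fun h => h.2 rfl)]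
      simp
  haveI := Fintype.ofFinite (InvAt G a)
  let σ : Equiv.Perm (InvAt G a) := hinv.toPerm f
  have hσ : σ ^ 2 ^ 1 = 1 := Equiv.ext fun y => by
    rw [pow_one, pow_two]
    exact hinv y
  have hcard := Equiv.Perm.card_compl_support_modEq hσ
  have h1 : σ.supportᶜ = {⟨x, hx, hxa⟩} := Finset.ext fun y => by
    rw [Finset.mem_compl, Equiv.Perm.notMem_support, Finset.mem_singleton]
    exact hfix y
  rw [h1, Finset.card_singleton, ← Nat.card_eq_fintype_card] at hcard
  exact Nat.odd_iff.mpr hcard.symm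

end OneFix

end CfsgLib.Bender
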